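import Groth.Prelude.Def_W4c3degenlocivbPfaff
import Mathlib

/-!
Sub-Pfaffians of a general skew matrix of binary linear forms span the binary forms.
-/

open MvPolynomial
open W4c3degenlocivb (pf)

namespace Groth.Agent.PfSpanLib

universe u v

theorem pf_map {R : Type u} {S : Type v} [CommRing R] [CommRing S] (φ : R →+* S) :
    ∀ (n : ℕ) (T : Matrix (Fin n) (Fin n) R), pf n (T.map φ) = φ (pf n T)
  | 0, _ => by simp [pf]
  | 1, _ => by simp [pf]
  | n + 2, T => by
    simp only [pf, map_sum, map_mul, map_pow, map_neg, map_one, Matrix.map_apply]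
    refine Finset.sum_congr rfl fun j _ => ?_
    rw [← pf_map φ n]
    rfl

theorem pf_homogeneous {σ : Type v} {K : Type u} [CommRing K] :
    ∀ (n : ℕ) (T : Matrix (Fin n) (Fin n) (MvPolynomial σ K)),
      (∀ a b, (T a b).IsHomogeneous 1) → (pf n T).IsHomogeneous (n / 2)
  | 0, _, _ => by simpa [pf] using isHomogeneous_one σ K
  | 1, _, _ => by simpa [pf] using isHomogeneous_zero σ K 0
  | n + 2, T, hT => by
    simp only [pf]
    refine IsHomogeneous.sum _ _ _ fun j _ => ?_
    have h1 : ((-1 : MvPolynomial σ K) ^ ((j : ℕ) + 1)).IsHomogeneous 0 := by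
      have := ((isHomogeneous_one σ K).neg).pow ((j : ℕ) + 1)
      simpa using this
    have h2 := (h1.mul (hT (Fin.last (n + 1)) (Fin.castSucc j))).mul
      (pf_homogeneous n (T.submatrix (Fin.castSucc ∘ j.succAbove) (Fin.castSucc ∘ j.succAbove))
        fun a b => hT _ _)
    rw [show (n + 2) / 2 = 0 + 1 + n / 2 by omega]
    exact h2

theorem pf_succ_succ_of_row {R : Type u} [CommRing R] (n : ℕ)
    (T : Matrix (Fin (n + 2)) (Fin (n + 2)) R)
    (h : ∀ j : Fin (n + 1), j ≠ Fin.last n → T (Fin.last (n + 1)) (Fin.castSucc j) = 0) :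
    pf (n + 2) T = (-1) ^ (n + 1) * T (Fin.last (n + 1)) (Fin.castSucc (Fin.last n)) *
      pf n (T.submatrix (Fin.castSucc ∘ Fin.castSucc) (Fin.castSucc ∘ Fin.castSucc)) := by
  rw [pf, Finset.sum_eq_single (Fin.last n)]
  · rw [Fin.val_last, Fin.succAbove_last]
  · intro j _ hj
    rw [h j hj, mul_zero, zero_mul]
  · simp

/-- `a ↦ a` below `c`, `a ↦ a + 1` from `c` on. -/
def skipNat (c a : ℕ) : ℕ := if a < c then a else a + 1

theorem pf_path {R : Type u} [CommRing R] (T : ℕ → ℕ → R)
    (h0 : ∀ a b, a ≠ b + 1 → b ≠ a + 1 → T a b = 0)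
    (j : ℕ) (x y : R) (hx : ∀ a, T (2 * a + 1) (2 * a) = -x)
    (hy : ∀ a, T (2 * a + 2) (2 * a + 1) = -y) :
    ∀ m, pf (2 * m) (Matrix.of fun a b : Fin (2 * m) =>
        T (skipNat (2 * j) a) (skipNat (2 * j) b)) = x ^ min m j * y ^ (m - j) := by
  intro m
  induction m with
  | zero => simp [pf]
  | succ m ih =>
    show pf (2 * m + 2) _ = _
    rw [pf_succ_succ_of_row (2 * m) _ (fun c hc => ?_)]
    · have hsub : (Matrix.of fun a b : Fin (2 * m + 2) =>
            T (skipNat (2 * j) a) (skipNat (2 * j) b)).submatrix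
          (Fin.castSucc ∘ Fin.castSucc) (Fin.castSucc ∘ Fin.castSucc) =
          Matrix.of fun a b : Fin (2 * m) => T (skipNat (2 * j) a) (skipNat (2 * j) b) := rfl
      refine (congrArg (fun z => _ * z) ((congrArg (pf (2 * m)) hsub).trans ih)).trans ?_
      simp only [Matrix.of_apply, Fin.val_last, Fin.val_castSucc, skipNat]
      rw [pow_succ, pow_mul, neg_one_sq, one_pow, one_mul]
      by_cases hm : m < j
      · rw [if_pos (by omega), if_pos (by omega), hx, Nat.min_eq_left hm.le,
          Nat.min_eq_left (by omega : m + 1 ≤ j), Nat.sub_eq_zero_of_le hm.le,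
          Nat.sub_eq_zero_of_le (by omega : m + 1 ≤ j), pow_succ]
        ring
      · rw [if_neg (by omega), if_neg (by omega), hy, Nat.min_eq_right (by omega : j ≤ m),
          Nat.min_eq_right (by omega : j ≤ m + 1), Nat.succ_sub (by omega : j ≤ m), pow_succ]
        ring
    · simp only [Matrix.of_apply, Fin.val_last, Fin.val_castSucc]
      have hcv : (c : ℕ) < 2 * m := by
        rcases Fin.eq_castSucc_or_eq_last c with ⟨c', rfl⟩ | rfl
        · simp
        · exact absurd rfl hc
      refine h0 _ _ ?_ ?_ <;> (simp only [skipNat]; split_ifs <;> omega)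

variable (k : Type u) [Field k] (r : ℕ)

/-- Coefficient arrays. -/
abbrev Idx : Type := Fin (2 * r + 1) × Fin (2 * r + 1) × Fin 2

/-- The matrix of linear forms of a coefficient array. -/
noncomputable def linMat {S : Type v} [CommRing S] (c : Fin (2 * r + 1) → Fin (2 * r + 1) → Fin 2 → S) :
    Matrix (Fin (2 * r + 1)) (Fin (2 * r + 1)) (MvPolynomial (Fin 2) S) :=
  Matrix.of fun a b => ∑ l : Fin 2, MvPolynomial.C (c a b l) * MvPolynomial.X l

/-- The principal sub-Pfaffian deleting index `i`. -/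
noncomputable def subPf {S : Type v} [CommRing S] (c : Fin (2 * r + 1) → Fin (2 * r + 1) → Fin 2 → S)
    (i : Fin (2 * r + 1)) : MvPolynomial (Fin 2) S :=
  pf (2 * r) ((linMat r c).submatrix i.succAbove i.succAbove)

theorem subPf_homogeneous {S : Type v} [CommRing S]
    (c : Fin (2 * r + 1) → Fin (2 * r + 1) → Fin 2 → S) (i : Fin (2 * r + 1)) :
    (subPf r c i).IsHomogeneous r := by
  have h := pf_homogeneous (2 * r) ((linMat r c).submatrix i.succAbove i.succAbove) (fun a b => ?_)
  · rwa [Nat.mul_div_cancel_left r two_pos] at h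
  · show (∑ l : Fin 2, _ : MvPolynomial (Fin 2) S).IsHomogeneous 1
    exact IsHomogeneous.sum (Finset.univ : Finset (Fin 2)) _ _ fun l _ => (MvPolynomial.isHomogeneous_C_mul_X (c (i.succAbove a) (i.succAbove b) l) l)

/-- The generic coefficient array. -/
noncomputable def genArr : Fin (2 * r + 1) → Fin (2 * r + 1) → Fin 2 → MvPolynomial (Idx r) k :=
  fun a b l => X (a, b, l)

theorem map_subPf_gen (c : Fin (2 * r + 1) → Fin (2 * r + 1) → Fin 2 → k) (i : Fin (2 * r + 1)) :
    MvPolynomial.map (eval fun p : Idx r => c p.1 p.2.1 p.2.2) (subPf r (genArr k r) i) =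
      subPf r c i := by
  rw [subPf, subPf, ← pf_map]
  refine congrArg (pf (2 * r)) (Matrix.ext fun a b => ?_)
  simp [linMat, genArr, map_sum]

/-- The exponent `(a, r - a)`. -/
noncomputable def expo (a : Fin (r + 1)) : Fin 2 →₀ ℕ :=
  Finsupp.single 0 (a : ℕ) + Finsupp.single 1 (r - a)

/-- The index `2 b`. -/
def evenIdx (b : Fin (r + 1)) : Fin (2 * r + 1) := ⟨2 * (b : ℕ), by omega⟩

/-- The coefficient matrix of the even sub-Pfaffians. -/
noncomputable def coefMat {S : Type v} [CommRing S]
    (c : Fin (2 * r + 1) → Fin (2 * r + 1) → Fin 2 → S) : Matrix (Fin (r + 1)) (Fin (r + 1)) S :=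
  Matrix.of fun a b => coeff (expo r a) (subPf r c (evenIdx r b))

theorem eval_det_coefMat (c : Fin (2 * r + 1) → Fin (2 * r + 1) → Fin 2 → k) :
    eval (fun p : Idx r => c p.1 p.2.1 p.2.2) (coefMat r (genArr k r)).det = (coefMat r c).det := by
  rw [RingHom.map_det]
  refine congrArg Matrix.det (Matrix.ext fun a b => ?_)
  simp only [coefMat, RingHom.mapMatrix_apply, Matrix.map_apply, Matrix.of_apply]
  rw [← MvPolynomial.coeff_map, map_subPf_gen]

theorem span_eq_of_det_ne_zero (c : Fin (2 * r + 1) → Fin (2 * r + 1) → Fin 2 → k)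
    (h : (coefMat r c).det ≠ 0) :
    Submodule.span k (Set.range (subPf r c)) = homogeneousSubmodule (Fin 2) k r := by
  refine le_antisymm (Submodule.span_le.mpr ?_) ?_
  · rintro _ ⟨i, rfl⟩
    exact (mem_homogeneousSubmodule _ _).mpr (subPf_homogeneous r c i)
  · intro p hp
    rw [mem_homogeneousSubmodule] at hp
    obtain ⟨x, hx⟩ := (Matrix.mulVec_surjective_iff_isUnit.mpr
      ((Matrix.isUnit_iff_isUnit_det _).mpr (isUnit_iff_ne_zero.mpr h)))
      fun a => coeff (expo r a) p
    have hsum : p = ∑ b, x b • subPf r c (evenIdx r b) := by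
      refine MvPolynomial.ext _ _ fun d => ?_
      have hhom : (∑ b, x b • subPf r c (evenIdx r b)).IsHomogeneous r :=
        IsHomogeneous.sum _ _ _ fun b _ => by
          rw [smul_eq_C_mul]
          exact (subPf_homogeneous r c _).C_mul _
      by_cases hd : d.degree = r
      · have hd2 : d 0 + d 1 = r := by
          rw [← hd, Finsupp.degree_eq_sum, Fin.sum_univ_two]
        have he : d = expo r ⟨d 0, by omega⟩ := by
          refine Finsupp.ext fun i => ?_
          fin_cases i <;> simp [expo] <;> omega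
        rw [he, MvPolynomial.coeff_sum]
        have := congrFun hx ⟨d 0, by omega⟩
        rw [← this]
        simp only [Matrix.mulVec, dotProduct, coefMat, Matrix.of_apply, coeff_smul, smul_eq_mul]
        exact Finset.sum_congr rfl fun b _ => mul_comm _ _
      · rw [hp.coeff_eq_zero hd, hhom.coeff_eq_zero hd]
    rw [hsum]
    exact Submodule.sum_mem _ fun b _ =>
      Submodule.smul_mem _ _ (Submodule.subset_span ⟨_, rfl⟩)

/-- The witness: a path with alternating weights. -/
def pathArr : Fin (2 * r + 1) → Fin (2 * r + 1) → Fin 2 → k := fun a b l =>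
  (if (b : ℕ) = a + 1 ∧ (a : ℕ) % 2 = (l : ℕ) then 1 else 0) -
    (if (a : ℕ) = b + 1 ∧ (b : ℕ) % 2 = (l : ℕ) then 1 else 0)

theorem pathArr_skew (a b : Fin (2 * r + 1)) (l : Fin 2) :
    pathArr k r b a l = -pathArr k r a b l := by
  simp [pathArr]

theorem subPf_pathArr (b : Fin (r + 1)) :
    subPf r (pathArr k r) (evenIdx r b) = monomial (expo r b) 1 := by
  let T : ℕ → ℕ → MvPolynomial (Fin 2) k := fun a c =>
    (if c = a + 1 then (if a % 2 = 0 then X 0 else X 1) else 0) -
      (if a = c + 1 then (if c % 2 = 0 then X 0 else X 1) else 0)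
  have hT : (linMat r (pathArr k r)).submatrix (evenIdx r b).succAbove (evenIdx r b).succAbove =
      Matrix.of fun a c : Fin (2 * r) => T (skipNat (2 * (b : ℕ)) a) (skipNat (2 * (b : ℕ)) c) := by
    have hs : ∀ a : Fin (2 * r), (((evenIdx r b).succAbove a : Fin (2 * r + 1)) : ℕ) =
        skipNat (2 * (b : ℕ)) a := by
      intro a
      rw [skipNat]
      split_ifs with h
      · rw [Fin.succAbove_of_castSucc_lt _ _ (by simpa [evenIdx, Fin.lt_def] using h)]
        rfl
      · rw [Fin.succAbove_of_le_castSucc _ _ (by simpa [evenIdx, Fin.le_def] using Nat.not_lt.mp h)]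
        rfl
    refine Matrix.ext fun a c => ?_
    simp only [Matrix.submatrix_apply, linMat, Matrix.of_apply, pathArr, hs, T, Fin.sum_univ_two,
      Fin.val_zero, Fin.val_one]
    rcases Nat.mod_two_eq_zero_or_one (skipNat (2 * (b : ℕ)) a) with ha | ha <;>
      rcases Nat.mod_two_eq_zero_or_one (skipNat (2 * (b : ℕ)) c) with hc | hc <;>
      simp [ha, hc, apply_ite (MvPolynomial.C : k → MvPolynomial (Fin 2) k)] <;> split_ifs <;> ring
  rw [subPf, hT, pf_path T (fun a c h1 h2 => by simp [T, h1, h2]) b (X 0) (X 1)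
    (fun a => by
      simp only [T, if_neg (by omega : ¬ 2 * a = 2 * a + 1 + 1)]
      simp)
    (fun a => by
      simp only [T, if_neg (by omega : ¬ 2 * a + 1 = 2 * a + 2 + 1)]
      simp), Nat.min_eq_right (by omega : (b : ℕ) ≤ r), X_pow_eq_monomial, X_pow_eq_monomial,
    monomial_mul, one_mul]
  rfl

theorem det_pathArr : (coefMat r (pathArr k r)).det = 1 := by
  rw [show coefMat r (pathArr k r) = 1 from Matrix.ext fun a b => ?_, Matrix.det_one]
  simp only [coefMat, Matrix.of_apply, subPf_pathArr, coeff_monomial, Matrix.one_apply]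
  refine if_congr ⟨fun h => ?_, fun h => by rw [h]⟩ rfl rfl
  refine Fin.ext ?_
  simpa [expo] using (congrArg (fun e : Fin 2 →₀ ℕ => e 0) h).symm

theorem exists_generic_span :
    ∃ Φ : MvPolynomial (Idx r) k,
      (∃ c : Fin (2 * r + 1) → Fin (2 * r + 1) → Fin 2 → k, (∀ i j l, c j i l = -c i j l) ∧
        eval (fun p : Idx r => c p.1 p.2.1 p.2.2) Φ ≠ 0) ∧
      ∀ c : Fin (2 * r + 1) → Fin (2 * r + 1) → Fin 2 → k,
        eval (fun p : Idx r => c p.1 p.2.1 p.2.2) Φ ≠ 0 →
          Submodule.span k (Set.range (subPf r c)) = homogeneousSubmodule (Fin 2) k r :=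
  ⟨(coefMat r (genArr k r)).det,
    ⟨pathArr k r, fun i j l => pathArr_skew k r i j l, by
      rw [eval_det_coefMat, det_pathArr]; exact one_ne_zero⟩,
    fun c hc => span_eq_of_det_ne_zero k r c (by rwa [eval_det_coefMat] at hc)⟩

end Groth.Agent.PfSpanLib
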